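import Mathlib
import Cfsg.Agent.Lib.PresSp.Gen2

/-!
# Two generators for the symplectic groups: small fields, at least three coordinates
-/

set_option autoImplicit false
set_option linter.unusedSectionVars false

namespace Cfsg.Agent.Lib.PresSp

open Equiv Matrix Matrix.SpecialLinearGroup
open scoped MatrixGroups
open Cfsg.Agent.Lib.PSL2.Basic Cfsg.Agent.Lib.PresSL.Aut
open Cfsg.Agent.Lib.Steinberg.Family Cfsg.Agent.Lib.Steinberg.LinearStem
open Cfsg.Agent.Lib.PresSL.Real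

variable {ι F K : Type*} [Fintype ι] [DecidableEq ι] [Field F] [Group K]

namespace Gen2

theorem gB_three (h2 : (2 : F) = 0) : ((y 1 * x 1 : SL(2, F))) ^ 3 = 1 := by
  apply ext2
  · simp [pow_succ]
    linear_combination 2 * h2
  · simp [pow_succ]
    linear_combination 4 * h2
  · simp [pow_succ]
    linear_combination 4 * h2
  · simp [pow_succ]
    linear_combination 6 * h2

theorem gB_four (h3 : (3 : F) = 0) : ((y 1 * x 1 : SL(2, F))) ^ 4 = 1 := by
  apply ext2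
  · simp [pow_succ]
    linear_combination 4 * h3
  · simp [pow_succ]
    linear_combination 7 * h3
  · simp [pow_succ]
    linear_combination 7 * h3
  · simp [pow_succ]
    linear_combination 11 * h3

end Gen2

namespace SpBase

open Gen2

variable (B : SpBase ι F K) (H : Subgroup K)

theorem ll_uu_comm [Fintype F] {i j : ι} (hij : i ≠ j) (t c : F) :
    B.uu i j t * B.ll j c = B.ll j c * B.uu i j t := by
  rw [B.uu_symm hij]
  exact B.uu_ll_comm hij.symm t c

theorem ll_neg (i : ι) (c : F) : B.ll i (-c) = (B.ll i c)⁻¹ := by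
  rw [ll, ll, ← map_inv, x_inv]

/-- Conjugation of a root element by a long root element of its target. -/
theorem cj_ll_Y [Fintype F] {i j : ι} (hij : i ≠ j) (t c : F) :
    cj (B.ll j c) (B.Y i j t) = B.uu i j (t * c) * B.ll i (-(t ^ 2 * c)) * B.Y i j t := by
  have h1 := B.gen135 hij t (-c)
  rw [show -(t * (-c)) = t * c by ring, show t ^ 2 * (-c) = -(t ^ 2 * c) by ring, B.ll_neg j c] at h1
  set A := B.uu i j (t * c) * B.ll i (-(t ^ 2 * c)) with hA
  set l := B.ll j c with hl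
  have hA' : cj l A = A := by
    rw [hA, cj_mul, cj_of_comm (B.ll_uu_comm hij _ _).symm, hl, ll, ll, B.cj_L_of_ne hij.symm]
  have h2 : B.Y i j t * l⁻¹ = A * l⁻¹ * B.Y i j t := by
    rw [← h1]
    group
  calc cj l (B.Y i j t) = l * (B.Y i j t * l⁻¹) := by simp [cj, mul_assoc]
    _ = l * (A * l⁻¹ * B.Y i j t) := by rw [h2]
    _ = cj l A * B.Y i j t := by simp [cj, mul_assoc]
    _ = A * B.Y i j t := by rw [hA']

/-- The same statement for the other root element. -/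
theorem cj_Ly_uu [Fintype F] {i j : ι} (hij : i ≠ j) (t c : F) :
    cj (B.L j (y (-c))) (B.uu i j t) = B.Y i j (-(t * c)) * B.ll i (-(t ^ 2 * c)) * B.uu i j t := by
  have h1 := congrArg (cj (B.sg j)) (B.cj_ll_Y hij t c)
  have e1 : cj (B.sg j) (B.ll j c) = B.L j (y (-c)) := by
    rw [sg, ll, B.L_cj, cj_w_x]
  have e2 : cj (B.sg j) (B.uu i j (t * c)) = B.Y i j (-(t * c)) := by
    rw [uu, sg_sq_cj, B.h_Y _ _ hij, fac_neg_tgt hij]
    simp
  have e3 : cj (B.sg j) (B.ll i (-(t ^ 2 * c))) = B.ll i (-(t ^ 2 * c)) :=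
    B.cj_L_of_ne hij.symm _ _
  rw [← cj_cj, cj_mul, cj_mul, e1, e2, e3] at h1
  exact h1

/-- Case B: at least three coordinates and at most three field elements. -/
theorem case_B [Fintype F] {m : ℕ} (B : SpBase (Fin (m + 3)) F K)
    (hgen : Subgroup.closure (Set.range B.ψ ∪ Set.range B.ρ) = ⊤) (hζ2 : (B.ζ : F) ^ 2 = 1) :
    ∃ a b : K, Subgroup.closure {a, b} = ⊤ := by
  have hsmall : ∀ s : F, s = 0 ∨ s = 1 ∨ s = -1 := by
    intro s
    by_cases hs : s = 0
    · exact Or.inl hs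
    · right
      obtain ⟨k, hk⟩ := B.hζ (Units.mk0 s hs)
      have h1 := congrArg Units.val hk
      simp only [Units.val_mk0, Units.val_pow_eq_pow_val] at h1
      have h2 : s * s = 1 := by
        rw [h1, ← mul_pow, ← sq, hζ2, one_pow]
      exact mul_self_eq_one_iff.mp h2
  obtain ⟨e₁, e₂, hg, hY2, hcop⟩ : ∃ e₁ e₂ : ℕ, (y 1 * x 1 : SL(2, F)) ^ e₁ = 1 ∧
      (∀ (i j : Fin (m + 3)) (t : F), B.Y i j t ^ e₂ = 1) ∧ e₁.Coprime e₂ := by
    have hadd := fun (i j : Fin (m + 3)) => add_pow (f := B.Y i j) (B.Y_add' i j)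
    rcases hsmall 2 with h | h | h
    · refine ⟨3, 2, gB_three h, fun i j t => ?_, by norm_num⟩
      rw [hadd, nsmul_eq_mul, Nat.cast_ofNat, h, zero_mul, B.Y_zero']
    · exfalso
      have : (1 : F) = 0 := by linear_combination h
      exact one_ne_zero this
    · have h3 : (3 : F) = 0 := by linear_combination h
      refine ⟨4, 3, gB_four h3, fun i j t => ?_, by norm_num⟩
      rw [hadd, nsmul_eq_mul, Nat.cast_ofNat, h3, zero_mul, B.Y_zero']
  obtain ⟨s, M, hM⟩ := exists_isMono (F := F) (finRotate (m + 3))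
  have h01 : (0 : Fin (m + 3)) ≠ 1 := by simp
  have h02 : (0 : Fin (m + 3)) ≠ 2 := by
    intro h
    have := congrArg Fin.val h
    rw [Fin.val_zero, Fin.val_two] at this
    omega
  have h12 : (1 : Fin (m + 3)) ≠ 2 := by
    intro h
    have := congrArg Fin.val h
    rw [Fin.val_one, Fin.val_two] at this
    omega
  refine ⟨B.ψ M, B.L 2 (y 1 * x 1) * B.Y 0 1 1, ?_⟩
  set H := Subgroup.closure {B.ψ M, B.L 2 (y 1 * x 1) * B.Y 0 1 1} with hH
  have ha : B.ψ M ∈ H := Subgroup.subset_closure (by simp)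
  have hb : B.L 2 (y 1 * x 1) * B.Y 0 1 1 ∈ H := Subgroup.subset_closure (by simp)
  obtain ⟨hLg, hY⟩ := mem_of_coprime (B.L_Y_comm h02.symm h12.symm h01 _ _)
    (by rw [← map_pow, hg, map_one]) (hY2 _ _ _) hcop H hb
  have hone := all_Y_one B H hM ha hY
  have hYall : ∀ i j, i ≠ j → ∀ t, B.Y i j t ∈ H := by
    intro i j hij t
    rcases hsmall t with rfl | rfl | rfl
    · rw [B.Y_zero hij]
      exact H.one_mem
    · exact hone i j hij
    · rw [B.Y_neg hij]
      exact inv_mem (hone i j hij)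
  have hψ := B.psi_mem_of_Y H hYall
  have hLg1 : B.L 1 (y 1 * x 1) ∈ H := B.L_move H hψ 2 1 hLg
  have hLg0 : B.L 0 (y 1 * x 1) ∈ H := B.L_move H hψ 2 0 hLg
  -- the element `uu`
  have huu : B.uu 0 1 1 ∈ H := by
    have h1 := cj_mem' hLg1 hY
    rw [map_mul, cj_comp] at h1
    have e := B.cj_ll_Y h01 1 1
    rw [ll] at e
    rw [e, cj_mul, cj_mul, cj_of_comm (B.Y_Ly_comm h01 1 1).symm, B.cj_L_of_ne h01.symm] at h1
    have e2 := B.cj_Ly_uu h01 1 (-1)
    rw [neg_neg] at e2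
    simp only [mul_one, one_pow, mul_neg, neg_neg] at e2 h1
    rw [e2] at h1
    have e3 : B.Y 0 1 1 * B.ll 0 1 * B.uu 0 1 1 * B.L 0 (x (-1)) * B.Y 0 1 1 =
        B.Y 0 1 1 * B.uu 0 1 1 * B.Y 0 1 1 := by
      have e4 : B.L 0 (x (-1 : F)) = (B.ll 0 1)⁻¹ := by
        rw [ll, ← map_inv, x_inv]
      rw [e4]
      have e5 := (B.uu_ll_comm h01 1 1)
      calc B.Y 0 1 1 * B.ll 0 1 * B.uu 0 1 1 * (B.ll 0 1)⁻¹ * B.Y 0 1 1
          = B.Y 0 1 1 * (B.ll 0 1 * B.uu 0 1 1) * (B.ll 0 1)⁻¹ * B.Y 0 1 1 := by group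
        _ = B.Y 0 1 1 * (B.uu 0 1 1 * B.ll 0 1) * (B.ll 0 1)⁻¹ * B.Y 0 1 1 := by rw [e5]
        _ = _ := by group
    change B.Y 0 1 1 * B.ll 0 1 * B.uu 0 1 1 * B.L 0 (x (-1)) * B.Y 0 1 1 ∈ H at h1
    rw [e3] at h1
    have h2 := mul_mem (mul_mem (inv_mem hY) h1) (inv_mem hY)
    have e6 : (B.Y 0 1 1)⁻¹ * (B.Y 0 1 1 * B.uu 0 1 1 * B.Y 0 1 1) * (B.Y 0 1 1)⁻¹ = B.uu 0 1 1 := by
      group
    rwa [e6] at h2
  have hll0 : ∀ t, B.L 0 (x t) ∈ H := by
    have h1 := cj_mem' (inv_mem hLg1) hY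
    rw [← map_inv, _root_.mul_inv_rev, x_inv, y_inv, map_mul, cj_comp,
      cj_of_comm (B.Y_Ly_comm h01 1 (-1)).symm] at h1
    have e := B.cj_ll_Y h01 1 (-1)
    rw [ll] at e
    rw [e] at h1
    simp only [mul_neg, mul_one, one_pow, neg_neg] at h1
    have hu1 : B.uu 0 1 (-1) ∈ H := by
      rw [uu, B.Y_neg h01, cj_inv]
      exact inv_mem huu
    have h2 : B.ll 0 1 ∈ H := by
      have h3 := mul_mem (mul_mem (inv_mem hu1) h1) (inv_mem hY)
      have e6 : (B.uu 0 1 (-1))⁻¹ * (B.uu 0 1 (-1) * B.ll 0 1 * B.Y 0 1 1) * (B.Y 0 1 1)⁻¹ = B.ll 0 1 := by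
        group
      rwa [e6] at h3
    intro t
    rcases hsmall t with rfl | rfl | rfl
    · simpa using H.one_mem
    · exact h2
    · have := inv_mem h2
      rwa [← B.ll_neg] at this
  have hy0 : ∀ t, B.L 0 (y t) ∈ H := by
    have h1 : B.L 0 (y 1) ∈ H := by
      have h2 := mul_mem hLg0 (hll0 (-1))
      rw [← map_mul, ← x_inv] at h2
      have e : (y 1 * x 1 * (x 1)⁻¹ : SL(2, F)) = y 1 := by group
      rwa [e] at h2
    intro t
    rcases hsmall t with rfl | rfl | rfl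
    · simpa using H.one_mem
    · exact h1
    · have := inv_mem h1
      rwa [← map_inv, y_inv] at this
  exact B.top_of H hgen hψ 0 hll0 hy0

end SpBase

end Cfsg.Agent.Lib.PresSp
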