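import Mathlib
import Cfsg.Agent.Lib.PresSp.Gen2B

/-!
# Two generators for the symplectic groups: two coordinates
-/

set_option autoImplicit false
set_option linter.unusedSectionVars false

namespace Cfsg.Agent.Lib.PresSp

open Equiv Matrix Matrix.SpecialLinearGroup
open scoped MatrixGroups
open Cfsg.Agent.Lib.PSL2.Basic Cfsg.Agent.Lib.PresSL.Aut
open Cfsg.Agent.Lib.Steinberg.Family Cfsg.Agent.Lib.Steinberg.LinearStem
open Cfsg.Agent.Lib.PresSL.Real

variable {F K : Type*} [Field F] [Group K]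

namespace SpBase

open Gen2

theorem two_Y_mem (B : SpBase (Fin 2) F K) (H : Subgroup K) (h0 : ∀ t, B.Y 0 1 t ∈ H)
    (h1 : ∀ t, B.Y 1 0 t ∈ H) : ∀ i j, i ≠ j → ∀ t, B.Y i j t ∈ H := by
  intro i j hij t
  fin_cases i <;> fin_cases j
  · exact absurd rfl hij
  · exact h0 t
  · exact h1 t
  · exact absurd rfl hij

theorem h01' : (0 : Fin 2) ≠ 1 := by simp

/-- The action of the coordinate swap, two coordinates. -/
theorem W_Y (B : SpBase (Fin 2) F K) (t : F) :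
    cj (B.ψ (WW (0 : Fin 2) 1)) (B.Y 0 1 t) = B.Y 1 0 (-t) := by
  have h := isMono_WW (F := F) h01'
  rw [B.Y_mono h h01', swap_apply_left, swap_apply_right]
  simp

theorem W_L0 (B : SpBase (Fin 2) F K) (z : SL(2, F)) :
    cj (B.ψ (WW (0 : Fin 2) 1)) (B.L 0 z) = B.L 1 z := by
  have h := isMono_WW (F := F) h01'
  rw [B.L_mono h, swap_apply_left]

theorem W_L1 (B : SpBase (Fin 2) F K) (z : SL(2, F)) :
    cj (B.ψ (WW (0 : Fin 2) 1)) (B.L 1 z) = B.L 0 z := by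
  have h := isMono_WW (F := F) h01'
  rw [B.L_mono h, swap_apply_right]

theorem uu_scale_tgt {ι : Type*} [Fintype ι] [DecidableEq ι] (B : SpBase ι F K) {i j : ι} (hij : i ≠ j)
    (u : Fˣ) (t : F) : cj (B.L j (dd u)) (B.uu i j t) = B.uu i j ((u : F) * t) := by
  rw [uu, B.h_sg, B.h_Y _ _ hij, uu]
  simp [fac, hij]

theorem uu_scale_src {ι : Type*} [Fintype ι] [DecidableEq ι] (B : SpBase ι F K) {i j : ι} (hij : i ≠ j)
    (u : Fˣ) (t : F) : cj (B.L i (dd u)) (B.uu i j t) = B.uu i j ((u : F) * t) := by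
  rw [uu, ← cj_comp, sg, B.L_comm hij, cj_comp, ← sg, B.h_Y _ _ hij, uu]
  simp [fac, hij.symm]

/-- Case C: two coordinates and a large field. -/
theorem case_C [Fintype F] (B : SpBase (Fin 2) F K)
    (hgen : Subgroup.closure (Set.range B.ψ ∪ Set.range B.ρ) = ⊤) (hζ2 : (B.ζ : F) ^ 2 ≠ 1) :
    ∃ a b : K, Subgroup.closure {a, b} = ⊤ := by
  have h01 := h01'
  have hζ0 : (B.ζ : F) ≠ 0 := B.ζ.ne_zero
  have hg1 : (dd B.ζ * x 1 : SL(2, F)) ^ (Fintype.card F - 1) = 1 := dd_x_pow _ hζ2 _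
  have hg2 : (dd B.ζ : SL(2, F)) ^ (Fintype.card F - 1) = 1 := by
    simpa using dd_x_pow B.ζ hζ2 (0 : F)
  set c : K := B.L 0 (dd B.ζ * x 1) * B.L 1 (dd B.ζ) with hcdef
  set W := B.ψ (WW (0 : Fin 2) 1) with hW
  set A := W * B.sg 1 with hA
  refine ⟨A, c * B.Y 0 1 1, ?_⟩
  set H := Subgroup.closure {A, c * B.Y 0 1 1} with hH
  have ha : A ∈ H := Subgroup.subset_closure (by simp)
  have hb : c * B.Y 0 1 1 ∈ H := Subgroup.subset_closure (by simp)
  have hc : c * B.Y 0 1 1 = B.Y 0 1 1 * c := by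
    rw [← cj_eq_iff, hcdef, cj_comp, B.h_Y _ _ h01, B.cj_dd_x_src h01]
    congr 1
    simp [fac, h01]
  have hcpow : c ^ (Fintype.card F - 1) = 1 := by
    rw [hcdef, Commute.mul_pow (B.L_comm h01 _ _), ← map_pow, ← map_pow, hg1, hg2, map_one, map_one,
      one_mul]
  obtain ⟨hc₁, hY⟩ := mem_of_coprime hc hcpow (B.Y_char _ _ _) coprime_card H hb
  -- action of the rotation
  have A1 : ∀ t, cj A (B.Y 0 1 t) = B.uu 0 1 (-t) := by
    intro t
    rw [hA, cj_comp, hW]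
    show cj _ (cj (B.sg 1) _) = _
    rw [← cj_cj, B.W_Y, sg, B.W_L1, B.uu_symm h01]
  have A2 : ∀ t, cj A (B.uu 0 1 t) = B.Y 1 0 t := by
    intro t
    rw [hA, cj_comp, hW, uu, sg_sq_cj, B.h_Y _ _ h01, fac_neg_tgt h01, B.W_Y]
    simp
  have A4 : ∀ z, cj A (B.L 0 z) = B.L 1 z := by
    intro z
    rw [hA, cj_comp, sg, B.cj_L_of_ne h01.symm, hW, B.W_L0]
  have A5 : ∀ z, cj A (B.L 1 z) = B.L 0 (cj w z) := by
    intro z
    rw [hA, cj_comp, sg, B.L_cj, hW, B.W_L1]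
  have A3 : ∀ t, cj c (B.uu 0 1 t) = B.uu 0 1 ((B.ζ : F) ^ 2 * t) := by
    intro t
    rw [hcdef, cj_comp, B.uu_scale_tgt h01, map_mul, cj_comp, cj_of_comm (B.uu_ll_comm h01 _ _).symm,
      B.uu_scale_src h01]
    congr 1
    ring
  have hus : ∀ t, B.uu 0 1 t ∈ H → B.uu 0 1 ((B.ζ : F) ^ 2 * t) ∈ H := by
    intro t ht
    rw [← A3]
    exact cj_mem' hc₁ ht
  have hus2 : ∀ (v : Fˣ) (t : F), B.uu 0 1 t ∈ H → B.uu 0 1 ((v : F) ^ 2 * t) ∈ H := by
    intro v t ht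
    obtain ⟨k, rfl⟩ := B.hζ v
    induction k with
    | zero => simpa using ht
    | succ k ih =>
      have := hus _ ih
      convert this using 2
      simp only [Units.val_pow_eq_pow_val]
      ring
  have huu1 : B.uu 0 1 1 ∈ H := by
    have h1 := cj_mem' ha (inv_mem hY)
    rw [← B.Y_neg h01, A1, neg_neg] at h1
    exact h1
  have huuall : ∀ t, B.uu 0 1 t ∈ H :=
    spread_sq H (f := B.uu 0 1) (B.uu_add h01) one_ne_zero huu1 hus2
  have Y10 : ∀ t, B.Y 1 0 t ∈ H := by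
    intro t
    rw [← A2]
    exact cj_mem' ha (huuall t)
  have Y01 : ∀ t, B.Y 0 1 t ∈ H := by
    intro t
    rw [← cj_inv_of_cj (A1 t)]
    exact cj_mem' (inv_mem ha) (huuall _)
  have hψ := B.psi_mem_of_Y H (B.two_Y_mem H Y01 Y10)
  have hu2 : (1 : F) - (B.ζ : F) ^ 2 ≠ 0 := fun h => hζ2 (sub_eq_zero.mp h).symm
  have hx0 : ∀ t, B.L 0 (x t) ∈ H := by
    have h1 := mul_mem (cj_mem' hc₁ (hψ ((X _ F).h 0 1 B.ζ))) (inv_mem (hψ ((X _ F).h 0 1 B.ζ)))
    rw [hcdef, B.pure_of h01 B.ζ _ (B.cj_L_of_ne h01.symm _ _) (by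
      rw [B.L_cj, cj_of_comm (by rw [← dd_mul, ← dd_mul, mul_comm])]), comm_dd_x] at h1
    exact B.ll_spread H hψ h01 (mul_ne_zero (mul_ne_zero (pow_ne_zero 2 hζ0) one_ne_zero) hu2) h1
  have hy0 : ∀ t, B.L 0 (y t) ∈ H := by
    intro t
    have h1 := cj_mem' ha (hx0 (-t))
    rw [A4] at h1
    have h2 := cj_mem' ha h1
    rw [A5, cj_w_x, neg_neg] at h2
    exact h2
  exact B.top_of H hgen hψ 0 hx0 hy0

/-- Case D: two coordinates and three field elements. -/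
theorem case_D [Fintype F] (B : SpBase (Fin 2) F K)
    (hgen : Subgroup.closure (Set.range B.ψ ∪ Set.range B.ρ) = ⊤) (hζ2 : (B.ζ : F) ^ 2 = 1)
    (hcard : Fintype.card F ≠ 2) :
    ∃ a b : K, Subgroup.closure {a, b} = ⊤ := by
  have h01 := h01'
  have hsmall : ∀ s : F, s = 0 ∨ s = 1 ∨ s = -1 := by
    intro s
    by_cases hs : s = 0
    · exact Or.inl hs
    · right
      obtain ⟨k, hk⟩ := B.hζ (Units.mk0 s hs)
      have h1 := congrArg Units.val hk
      simp only [Units.val_mk0, Units.val_pow_eq_pow_val] at h1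
      have h2 : s * s = 1 := by
        rw [h1, ← mul_pow, ← sq, hζ2, one_pow]
      exact mul_self_eq_one_iff.mp h2
  have h3 : (3 : F) = 0 := by
    rcases hsmall 2 with h | h | h
    · exfalso
      apply hcard
      classical
      have hu : (Finset.univ : Finset F) = {0, 1} := by
        ext s
        simp only [Finset.mem_univ, Finset.mem_insert, Finset.mem_singleton, true_iff]
        rcases hsmall s with e | e | e
        · exact Or.inl e
        · exact Or.inr e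
        · right
          rw [e]
          linear_combination -h
      rw [← Finset.card_univ, hu, Finset.card_pair zero_ne_one]
    · exfalso
      have : (1 : F) = 0 := by linear_combination h
      exact one_ne_zero this
    · linear_combination h
  have hY3 : ∀ (i j : Fin 2) (t : F), B.Y i j t ^ 3 = 1 := by
    intro i j t
    rw [add_pow (f := B.Y i j) (B.Y_add' i j), nsmul_eq_mul, Nat.cast_ofNat, h3, zero_mul, B.Y_zero']
  have hx3 : (x (1 : F)) ^ 3 = 1 := by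
    rw [x_pow, Nat.cast_ofNat, h3, zero_mul, x_zero]
  set W := B.ψ (WW (0 : Fin 2) 1) with hW
  set S := B.sg 0 * B.sg 1 with hS
  set T := W⁻¹ * S with hT
  have hcW0 : ∀ z, cj W (B.L 0 z) = B.L 1 z := B.W_L0
  have hcW1 : ∀ z, cj W (B.L 1 z) = B.L 0 z := B.W_L1
  have hcWi1 : ∀ z, cj W⁻¹ (B.L 1 z) = B.L 0 z := fun z => cj_inv_of_cj (hcW0 z)
  have hcWi0 : ∀ z, cj W⁻¹ (B.L 0 z) = B.L 1 z := fun z => cj_inv_of_cj (hcW1 z)
  have hT1 : ∀ t, cj T (B.Y 0 1 t) = B.Y 0 1 t := by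
    intro t
    rw [hT, cj_comp, hS, B.R_gen h01 t]
    exact cj_inv_of_cj (B.W_Y t)
  have hT0' : ∀ z, cj T (B.L 0 z) = B.L 1 (cj w z) := by
    intro z
    rw [hT, cj_comp, hS, cj_comp, show B.sg 0 = B.L 0 w from rfl, show B.sg 1 = B.L 1 w from rfl,
      B.cj_L_of_ne h01.symm, B.L_cj, hcWi0]
  have hT1' : ∀ z, cj T (B.L 1 z) = B.L 0 (cj w z) := by
    intro z
    rw [hT, cj_comp, hS, cj_comp, show B.sg 0 = B.L 0 w from rfl, show B.sg 1 = B.L 1 w from rfl,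
      B.L_cj, B.cj_L_of_ne h01, hcWi1]
  have hWS : W * S = S * W := by
    rw [← cj_eq_iff, hS, cj_mul, sg, sg, hcW0, hcW1]
    exact B.L_comm h01.symm _ _
  have hSS : S * S = B.L 0 (dd (-1)) * B.L 1 (dd (-1)) := by
    rw [hS, ← w_sq, map_mul, map_mul, sg, sg]
    have := B.L_comm h01 (w : SL(2, F)) w
    calc B.L 0 w * B.L 1 w * (B.L 0 w * B.L 1 w) = B.L 0 w * (B.L 1 w * B.L 0 w) * B.L 1 w := by group
      _ = B.L 0 w * (B.L 0 w * B.L 1 w) * B.L 1 w := by rw [this]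
      _ = _ := by group
  have hWW : W * W = (S * S)⁻¹ := by
    have h1 := (X (Fin 2) F).w_one_sq h01
    have h2 := congrArg B.ψ h1
    rw [map_mul, map_inv] at h2
    have e : B.ψ ((X (Fin 2) F).h 0 1 (-1)) = S * S := by
      have h3 := B.psi_h h01 (-1 : Fˣ)
      rw [inv_neg_one] at h3
      simp only [Units.val_neg, Units.val_one] at h3
      rw [h3, hSS]
    rw [e] at h2
    exact h2
  have hd : (dd (-1 : Fˣ) : SL(2, F)) * dd (-1) = 1 := by
    rw [← dd_mul]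
    simp [dd_one]
  have hSSSS : (S * S) * (S * S) = 1 := by
    rw [hSS]
    have := B.L_comm h01 (dd (-1 : Fˣ)) (dd (-1))
    calc B.L 0 (dd (-1)) * B.L 1 (dd (-1)) * (B.L 0 (dd (-1)) * B.L 1 (dd (-1)))
        = B.L 0 (dd (-1)) * (B.L 1 (dd (-1)) * B.L 0 (dd (-1))) * B.L 1 (dd (-1)) := by group
      _ = B.L 0 (dd (-1)) * (B.L 0 (dd (-1)) * B.L 1 (dd (-1))) * B.L 1 (dd (-1)) := by rw [this]
      _ = (B.L 0 (dd (-1)) * B.L 0 (dd (-1))) * (B.L 1 (dd (-1)) * B.L 1 (dd (-1))) := by group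
      _ = 1 := by rw [← map_mul, ← map_mul, hd, map_one, map_one, one_mul]
  have hTT : T ^ 2 = 1 := by
    have hWS' : W⁻¹ * S = S * W⁻¹ := by
      calc W⁻¹ * S = W⁻¹ * (S * W) * W⁻¹ := by group
        _ = W⁻¹ * (W * S) * W⁻¹ := by rw [hWS]
        _ = S * W⁻¹ := by group
    have e : T ^ 2 = (W * W)⁻¹ * (S * S) := by
      rw [hT, sq]
      calc W⁻¹ * S * (W⁻¹ * S) = W⁻¹ * (S * W⁻¹) * S := by group
        _ = W⁻¹ * (W⁻¹ * S) * S := by rw [hWS']
        _ = _ := by group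
    rw [e, hWW, inv_inv, hSSSS]
  refine ⟨T * B.Y 0 1 1, B.L 0 (y 1 * x 1) * B.L 1 (x 1), ?_⟩
  set H := Subgroup.closure {T * B.Y 0 1 1, B.L 0 (y 1 * x 1) * B.L 1 (x 1)} with hH
  have ha : T * B.Y 0 1 1 ∈ H := Subgroup.subset_closure (by simp)
  have hb : B.L 0 (y 1 * x 1) * B.L 1 (x 1) ∈ H := Subgroup.subset_closure (by simp)
  obtain ⟨hTm, hY⟩ := mem_of_coprime (cj_eq_iff.mp (hT1 1)) hTT (hY3 _ _ _) (by norm_num) H ha
  obtain ⟨hg, hx1⟩ := mem_of_coprime (B.L_comm h01 _ _) (by rw [← map_pow, gB_four h3, map_one])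
    (by rw [← map_pow, hx3, map_one]) (by norm_num) H hb
  have hy1 : B.L 0 (y 1) ∈ H := by
    have h1 := cj_mem' hTm hx1
    rw [hT1', cj_w_x, ← y_inv, map_inv] at h1
    simpa using inv_mem h1
  have hx0 : B.L 0 (x 1) ∈ H := by
    have h1 := mul_mem (inv_mem hy1) hg
    rw [← map_inv, ← map_mul] at h1
    have e : ((y 1)⁻¹ * (y 1 * x 1) : SL(2, F)) = x 1 := by group
    rwa [e] at h1
  have hL0 : ∀ z, B.L 0 z ∈ H := by
    refine map_mem_of (B.L 0) H ?_ ?_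
    · intro t
      rcases hsmall t with rfl | rfl | rfl
      · simp [H.one_mem]
      · exact hx0
      · rw [← x_inv, map_inv]
        exact inv_mem hx0
    · intro t
      rcases hsmall t with rfl | rfl | rfl
      · simp [H.one_mem]
      · exact hy1
      · rw [← y_inv, map_inv]
        exact inv_mem hy1
  have hL1 : ∀ z, B.L 1 z ∈ H := by
    intro z
    have h1 := cj_mem' hTm (hL0 (cj (w : SL(2, F))⁻¹ z))
    rw [hT0'] at h1
    have e : cj (w : SL(2, F)) (cj (w : SL(2, F))⁻¹ z) = z := by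
      simp only [cj]
      group
    rwa [e] at h1
  have hY10 : B.Y 1 0 1 ∈ H := by
    have h1 := cj_mem' (mul_mem (hL0 w) (hL1 w)) hY
    rw [show B.L 0 w * B.L 1 w = B.sg 0 * B.sg 1 from rfl, B.R_gen h01, B.Y_neg h01.symm] at h1
    simpa using inv_mem h1
  have hY01all : ∀ t, B.Y 0 1 t ∈ H := by
    intro t
    rcases hsmall t with rfl | rfl | rfl
    · rw [B.Y_zero h01]
      exact H.one_mem
    · exact hY
    · rw [B.Y_neg h01]
      exact inv_mem hY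
  have hY10all : ∀ t, B.Y 1 0 t ∈ H := by
    intro t
    rcases hsmall t with rfl | rfl | rfl
    · rw [B.Y_zero h01.symm]
      exact H.one_mem
    · exact hY10
    · rw [B.Y_neg h01.symm]
      exact inv_mem hY10
  have hψ := B.psi_mem_of_Y H (B.two_Y_mem H hY01all hY10all)
  exact B.top_of H hgen hψ 0 (fun t => hL0 _) (fun t => hL0 _)

/-- All the cases together. -/
theorem two_gen_base [Fintype F] {n : ℕ} (B : SpBase (Fin n) F K) (hn : 2 ≤ n)
    (hgen : Subgroup.closure (Set.range B.ψ ∪ Set.range B.ρ) = ⊤)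
    (h22 : ¬ (n = 2 ∧ Fintype.card F = 2)) :
    ∃ a b : K, Subgroup.closure {a, b} = ⊤ := by
  by_cases h2 : n = 2
  · subst h2
    by_cases hζ : (B.ζ : F) ^ 2 = 1
    · exact B.case_D hgen hζ (fun h => h22 ⟨rfl, h⟩)
    · exact B.case_C hgen hζ
  · obtain ⟨m, rfl⟩ : ∃ m, n = m + 3 := ⟨n - 3, by omega⟩
    by_cases hζ : (B.ζ : F) ^ 2 = 1
    · exact case_B B hgen hζ
    · exact case_A B hgen hζ

end SpBase

/-- `Sp_2n(F)` is generated by two elements. -/
theorem sp_two_gen [Fintype F] (n : ℕ) (hn : 2 ≤ n) (h22 : ¬ (n = 2 ∧ Fintype.card F = 2)) :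
    ∃ a b : Matrix.symplecticGroup (Fin n) F, Subgroup.closure {a, b} = ⊤ := by
  obtain ⟨m, rfl⟩ : ∃ m, n = m + 2 := ⟨n - 2, by omega⟩
  obtain ⟨h₁, h₂, hh⟩ := Links.exists_two_gen (F := F) m
  obtain ⟨G₁, G₂, hG⟩ := Links.exists_two_gen (F := F) (m + 1)
  obtain ⟨g₁, g₂, hg⟩ := Cfsg.Agent.Lib.PresSL.SL2Data.exists_pair (F := F)
  obtain ⟨ζ, hζ⟩ := Cfsg.Agent.Lib.PresSL.SL2Data.exists_gen_unit (F := F)
  obtain ⟨B, hψ, hρ⟩ := Links.exists_base hh hζ hG hg RealSp.hatH (RealSp.bl 0) Links.links_real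
  exact B.two_gen_base (by omega) (by rw [hψ, hρ]; exact RealSp.gen_top (by omega) 0) h22

/-- `PSp_2n(F)` is generated by two elements. -/
theorem psp_two_gen [Fintype F] (n : ℕ) (hn : 2 ≤ n) (h22 : ¬ (n = 2 ∧ Fintype.card F = 2)) :
    ∃ a b : Cfsg.PSp n F, Subgroup.closure {a, b} = ⊤ := by
  obtain ⟨a, b, hab⟩ := sp_two_gen (F := F) n hn h22
  let π := QuotientGroup.mk' (Subgroup.center (Matrix.symplecticGroup (Fin n) F))
  refine ⟨π a, π b, ?_⟩
  have h1 := MonoidHom.map_closure π ({a, b} : Set _)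
  rw [hab, Set.image_pair] at h1
  rw [← h1]
  exact Subgroup.map_top_of_surjective _ (QuotientGroup.mk'_surjective _)

end Cfsg.Agent.Lib.PresSp
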